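import Groth.Agent.BigVol.KoszulSurj
import Groth.Agent.S14054
import Groth.Agent.DefAmple27.Basic
import Groth.Agent.PicLaw.Basic
import Groth.Agent.Props.AmpleCoeff
import Groth.Agent.Props.AmpleProper
import Groth.Agent.AmpleLib.Tensor
import Groth.Agent.DimOneAmple.AmpleOfGG
import Groth.Agent.ProjMorph.VeryAmple
import Groth.Agent.ProjProper.Basic
import Groth.Agent.ProperFin.FinEx
import Groth.Agent.SepTang48.Chart

/-!
On a proper scheme of dimension one the square of an ample globally generated invertible module `L`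
with `H¹(L) = 0` is very ample.
-/

set_option autoImplicit false
set_option linter.style.haveILetI false

open CategoryTheory CategoryTheory.Limits AlgebraicGeometry TopologicalSpace Opposite
open Groth.Agent.QCoh Groth.Agent.Props.GenLocus Groth.Agent.Props.GenTensor Groth.Agent.Props.GenProd
open Groth.Agent.AmpleLib

universe u

noncomputable section

namespace Groth.Agent.CurveVA2

variable {k : Type u} [Field k] {X : Scheme.{u}} [X.Over (Spec (CommRingCat.of k))]
  [IsProper (X ↘ Spec (CommRingCat.of k))] (hdim : topologicalKrullDim X = 1)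
  {L : X.Modules} (hL : PicF.IsInvertible L)

include k hdim hL in
/-- `H¹(L^m) = 0` for `m ≥ 1`. -/
theorem h1_pow (hgg : Curv2.IsGloballyGenerated L) (h1 : Subsingleton (Coh.HH X L 1)) :
    ∀ m : ℕ, Subsingleton (Coh.HH X (CohB1.tensorPow L (m + 1)) 1)
  | 0 => haveI := h1; BigVol.KoszulSurj.subsingleton_of_iso (ProjTwist.oneTens L).symm 1
  | m + 1 => by
    haveI := EulerChar.compactSpace k (X := X)
    haveI := EulerChar.isNoetherian k (X := X)
    obtain ⟨ι, hι, p, hp⟩ := DefAmple27.exists_epi_tensor (CohB1.tensorPow L (m + 1))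
      (VBLib.isCoh_of_ofRank (ProjTwist.isFinLocFreeOfRank_one hL)) hgg
    haveI := hι
    have hm : ∀ _ : ι, Subsingleton (Coh.HH X (CohB1.tensorPow L (m + 1)) 1) :=
      fun _ => h1_pow hgg h1 m
    refine @DefAmple27.h1_of_epi k _ X _ _ hdim _ _ p hp ?_
    exact @CohLin.subsingleton_sigma X ι hι (fun _ => CohB1.tensorPow L (m + 1)) 1 hm

include k hdim hL in
/-- For `j ≥ 2` the sections of `L^(j+1)` are sums of products by given generating sections. -/
theorem exists_eq_sum (hgg : Curv2.IsGloballyGenerated L) (h1 : Subsingleton (Coh.HH X L 1)) {r : ℕ}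
    (g : Fin r → Γ(L, ⊤)) (hg : ∀ x : X, ∃ a, x ∈ locus (g a)) (j : ℕ)
    (x : Γ(CohB1.tensorPow L (j + 3), ⊤)) :
    ∃ y : Fin r → Γ(CohB1.tensorPow L (j + 2), ⊤), x = ∑ a, tmul (y a) (g a) := by
  obtain ⟨M, hM, ⟨eM⟩⟩ := PicLaw.exists_inverse hL
  refine BigVol.KoszulSurj.exists_eq_sum_tmul (ProjTwist.tensComm M L ≪≫ eM) r g hg (fun q hq _ => ?_) x
  rcases eq_or_lt_of_le hq with rfl | hq'
  · obtain ⟨e⟩ := S14054.nonempty_pow_down eM 2 (j + 1)
    haveI := h1_pow (k := k) hdim hL hgg h1 j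
    exact BigVol.KoszulSurj.subsingleton_of_iso e.symm 1
  · exact EulerChar.subsingleton_HH_two_le k hdim _ hq'

omit [X.Over (Spec (CommRingCat.of k))] [IsProper (X ↘ Spec (CommRingCat.of k))] in
theorem co_add {j : ℕ} {V : X.Opens} (σ τ : Γ(CohB1.tensorPow L j, V)) {W : X.Opens} (h : W ≤ V)
    {e : Γ(L, W)} (he : IsGen L W e) :
    co j (σ + τ) h he = co j σ h he + co j τ h he :=
  co_unique _ _ _ (by rw [map_add, co_spec σ h he, co_spec τ h he, add_smul])

omit [X.Over (Spec (CommRingCat.of k))] [IsProper (X ↘ Spec (CommRingCat.of k))] in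
theorem co_zero' {j : ℕ} {V : X.Opens} {W : X.Opens} (h : W ≤ V) {e : Γ(L, W)} (he : IsGen L W e) :
    co j (0 : Γ(CohB1.tensorPow L j, V)) h he = 0 :=
  co_unique _ _ _ (by rw [map_zero, zero_smul])

omit [X.Over (Spec (CommRingCat.of k))] [IsProper (X ↘ Spec (CommRingCat.of k))] in
theorem co_smul_sec {j : ℕ} {V : X.Opens} (a : Γ(X, V)) (σ : Γ(CohB1.tensorPow L j, V)) {W : X.Opens}
    (h : W ≤ V) {e : Γ(L, W)} (he : IsGen L W e) :
    co j (a • σ) h he = rres h a * co j σ h he :=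
  co_unique _ _ _ (by rw [res_smul, co_spec σ h he, smul_smul])

omit [X.Over (Spec (CommRingCat.of k))] [IsProper (X ↘ Spec (CommRingCat.of k))] in
theorem co_tmul {j : ℕ} {V : X.Opens} (y : Γ(CohB1.tensorPow L j, V)) (g : Γ(L, V)) {W : X.Opens}
    (h : W ≤ V) {e : Γ(L, W)} (he : IsGen L W e) {c : Γ(X, W)} (hc : res L h g = c • e) :
    co (j + 1) (tmul y g : Γ(CohB1.tensorPow L (j + 1), V)) h he = co j y h he * c := by
  refine co_unique _ _ _ ?_
  refine (res_tmul h y g).trans ?_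
  rw [co_spec y h he, hc, tmul_smul_left, tmul_smul_right, smul_smul]
  rfl

omit [X.Over (Spec (CommRingCat.of k))] [IsProper (X ↘ Spec (CommRingCat.of k))] in
theorem co_sum_tmul_mem {j r : ℕ} {V : X.Opens} (y : Fin r → Γ(CohB1.tensorPow L j, V))
    (g : Fin r → Γ(L, V)) {W : X.Opens} (h : W ≤ V) {e : Γ(L, W)} (he : IsGen L W e)
    (c : Fin r → Γ(X, W)) (hc : ∀ b, res L h (g b) = c b • e) (S : Subring Γ(X, W))
    (hS : ∀ b, co j (y b) h he * c b ∈ S) (x : Γ(CohB1.tensorPow L (j + 1), V))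
    (hx : x = ∑ b, tmul (y b) (g b)) : co (j + 1) x h he ∈ S := by
  have e' : co (j + 1) x h he = ∑ b, co j (y b) h he * c b := by
    refine co_unique _ _ _ ?_
    subst hx
    rw [Finset.sum_smul]
    refine (map_sum (res (CohB1.tensorMod (CohB1.tensorPow L j) L) h).hom _ _).trans
      (Finset.sum_congr rfl fun b _ => ?_)
    rw [← co_tmul (y b) (g b) h he (hc b)]
    exact co_spec (L := L) (k := j + 1) (show Γ(CohB1.tensorPow L (j + 1), V) from tmul (y b) (g b)) h he
  rw [e']
  exact S.sum_mem fun b _ => hS b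

include k hdim hL in
/-- On the locus of a section the coefficients of the sections of `L^2` generate all functions. -/
theorem closure_eq_top (hgg : Curv2.IsGloballyGenerated L) (h1 : Subsingleton (Coh.HH X L 1)) {r : ℕ}
    (g : Fin r → Γ(L, ⊤)) (hg : ∀ x : X, ∃ a, x ∈ locus (g a)) (a : Fin r) {U : X.Opens}
    (hU : U = locus (g a)) (he : IsGen L U (res L (le_top : U ≤ ⊤) (g a))) (S : Subring Γ(X, U))
    (hS : ∀ σ : Γ(CohB1.tensorPow L 2, ⊤), co 2 σ le_top he ∈ S) : S = ⊤ := by
  haveI := EulerChar.compactSpace k (X := X)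
  haveI := EulerChar.isNoetherian k (X := X)
  -- the ratios
  have hr : ∀ b : Fin r, ∃ c ∈ S,
      res L (le_top : U ≤ ⊤) (g b) = c • res L (le_top : U ≤ ⊤) (g a) := fun b => by
    obtain ⟨c, hc, -⟩ := he.exists_eq le_rfl (res L le_top (g b))
    rw [res_self] at hc
    refine ⟨c, ?_, hc⟩
    have h := hS (tmul (pw L (g b) 1) (g a))
    rw [co_tmul (c := 1) (pw L (g b) 1) (g a) le_top he (one_smul _ _).symm, mul_one] at h
    rwa [show co 1 (pw L (g b) 1) le_top he = c from co_unique _ _ _ (by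
      rw [res_pw, hc, pw_smul, pow_one])] at h
  have hall : ∀ j, ∀ σ : Γ(CohB1.tensorPow L (j + 2), ⊤), co (j + 2) σ le_top he ∈ S := by
    intro j
    induction j with
    | zero => exact hS
    | succ j ih =>
      intro σ
      obtain ⟨y, hy⟩ := exists_eq_sum (k := k) hdim hL hgg h1 g hg j σ
      choose c hcS hc using hr
      exact co_sum_tmul_mem y g le_top he c hc S (fun b => S.mul_mem (ih (y b)) (hcS b)) σ hy
  refine eq_top_iff.2 fun f _ => ?_
  let s : Coh.structureModule X ⟶ CohB1.tensorPow L 1 := homOfSec (pw L (g a) 1)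
  have hs : sec s ⊤ = pw L (g a) 1 := by simp only [s, sec_homOfSec, res_self]
  have hU' : U = CohB1.genLocus _ s := by
    rw [genLocus_homOfSec, hU]
    exact ((locus_tmul (LFFrame.isInvertible_structureModule X) hL
      (show Γ(Coh.structureModule X, ⊤) from one' ⊤) (g a)).trans (by
        rw [DimOneAmple.locus_one, top_inf_eq])).symm
  obtain ⟨N, hN⟩ := Props.AmpleCoeff.exists_extend hL s hU' (l := 0) (show Γ(CohB1.tensorPow L 0, U) from f)
  obtain ⟨t, ht⟩ := hN (N + 2) (by omega)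
  have h0 : co 0 (show Γ(CohB1.tensorPow L 0, U) from f) (inf_le_left : U ⊓ U ≤ U)
      (he.restrict inf_le_right) = rres (inf_le_right : U ⊓ U ≤ U) f := by
    refine co_unique _ _ _ ?_
    exact (mul_one (rres (inf_le_right : U ⊓ U ≤ U) f)).symm
  have h1' : co 1 (sec s ⊤) (le_top : U ≤ ⊤) he = 1 := co_unique _ _ _ (by rw [hs, res_pw, one_smul])
  have h2 := ht U _ he
  rw [h0, h1', map_one, one_pow, one_mul (rres (inf_le_right : U ⊓ U ≤ U) f)] at h2
  have h3 : f = co (0 + 1 * (N + 2)) (sec t ⊤) le_top he := by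
    have h4 := congrArg (rres (le_inf le_rfl le_rfl : U ≤ U ⊓ U)) h2
    rw [rres_rres, rres_rres, rres_self, rres_self] at h4
    exact h4.symm
  rw [h3]
  have key : ∀ (m : ℕ) (σ : Γ(CohB1.tensorPow L m, ⊤)), m = N + 2 → co m σ le_top he ∈ S := by
    rintro m σ rfl
    exact hall N σ
  exact key _ _ (by omega)

include hdim hL in
/-- The square is very ample. -/
theorem exists_closedImmersion (_h0 : Module.finrank k (Coh.HH X (Coh.structureModule X) 0) = 1)
    (hgg : Curv2.IsGloballyGenerated L) (h1 : Subsingleton (Coh.HH X L 1)) (hample : CohB1.IsAmple L) :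
    ∃ (n : ℕ) (i : X ⟶ CohB1.ProjSpace n k), IsClosedImmersion i ∧
      i ≫ CohB1.ProjSpace.toSpec n k = X ↘ Spec (CommRingCat.of k) ∧
      Nonempty ((Scheme.Modules.pullback i).obj (Twist.twistProjSpace n k 1) ≅ CohB1.tensorPow L 2) := by
  classical
  let q := X ↘ Spec (CommRingCat.of k)
  haveI := EulerChar.compactSpace k (X := X)
  haveI := EulerChar.isNoetherian k (X := X)
  choose σ hσ using fun x : X => DimOneAmple.exists_genLocus_mem hL hgg x
  obtain ⟨T, hT⟩ := isCompact_univ.elim_finite_subcover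
    (fun x : X => ((locus (O := ⊤) (σ x)) : Set X)) (fun x => (locus (O := ⊤) (σ x)).2)
    fun x _ => Set.mem_iUnion.2 ⟨x, hσ x⟩
  let g : Fin T.card → Γ(L, ⊤) := fun a => σ (T.equivFin.symm a)
  have hg : ∀ x : X, ∃ a, x ∈ locus (g a) := fun x => by
    obtain ⟨y, hy, hxy⟩ := Set.mem_iUnion₂.1 (hT (Set.mem_univ x))
    exact ⟨T.equivFin ⟨y, hy⟩, by simpa [g] using hxy⟩
  let B := CohB1.tensorPow L 2
  have hB : PicF.IsInvertible B := AmpleLib.isInvertible_tensorPow hL 2
  haveI := EulerChar.finite_HH k B (VBLib.isCoh_of_ofRank (ProjTwist.isFinLocFreeOfRank_one hB)) 0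
  let b := Module.finBasis k (Coh.HH X B 0)
  have hT0 : 0 < T.card := by
    haveI : Nonempty X := by
      by_contra h
      rw [not_nonempty_iff] at h
      haveI : IsEmpty (TopologicalSpace.IrreducibleCloseds X) :=
        ⟨fun Z => Z.2.nonempty.elim fun x _ => h.elim x⟩
      rw [topologicalKrullDim, Order.krullDim_eq_bot] at hdim
      exact absurd hdim (by simp)
    obtain ⟨a, -⟩ := hg (Classical.arbitrary X)
    exact Fin.pos a
  obtain ⟨n, hn⟩ : ∃ n, T.card + Module.finrank k (Coh.HH X B 0) = n + 1 :=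
    ⟨T.card + Module.finrank k (Coh.HH X B 0) - 1, by omega⟩
  let ε : Fin (n + 1) ≃ Fin T.card ⊕ Fin (Module.finrank k (Coh.HH X B 0)) :=
    (finCongr hn.symm).trans finSumFinEquiv.symm
  let s : Fin (n + 1) → ProjUP.Γm B := fun l =>
    Sum.elim (fun a => (pw L (g a) 2 : Γ(B, ⊤))) (fun l => ProperFin.h0Sec B (b l)) (ε l)
  have hloc : ∀ a, locus (O := ⊤) (s (ε.symm (.inl a))) = locus (g a) := fun a => by
    have e1 : (s (ε.symm (.inl a)) : Γ(B, ⊤)) = pw L (g a) 2 := by simp [s]
    refine (congrArg (locus (M := B) (O := ⊤)) e1).trans ?_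
    refine (locus_tmul (AmpleLib.isInvertible_tensorPow hL 1) hL (pw L (g a) 1) (g a)).trans ?_
    rw [show locus (pw L (g a) 1) = locus (g a) from
      (locus_tmul (LFFrame.isInvertible_structureModule X) hL
        (show Γ(Coh.structureModule X, ⊤) from one' ⊤) (g a)).trans (by
          rw [DimOneAmple.locus_one, top_inf_eq]), inf_idem]
  let J : Set (Fin (n + 1)) := Set.range fun a => ε.symm (.inl a)
  have hcov : ⊤ ≤ ⨆ l ∈ J, locus (O := ⊤) (s l) := fun x _ => by
    obtain ⟨a, ha⟩ := hg x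
    exact Opens.mem_iSup.2 ⟨ε.symm (.inl a), Opens.mem_iSup.2 ⟨⟨a, rfl⟩, (hloc a).ge ha⟩⟩
  have hgen : ProjUP.GeneratedBy B s := by
    intro x
    obtain ⟨l, hl⟩ := Opens.mem_iSup.mp (hcov (trivial : x ∈ (⊤ : X.Opens)))
    obtain ⟨-, hxl⟩ := Opens.mem_iSup.mp hl
    have hbij := ((isGen_iff_isFrame _).mp (isGen_locus (O := ⊤) (s l))).stalkComb_bijective x hxl
    refine top_le_iff.mp fun z _ => ?_
    obtain ⟨c, hc⟩ := hbij.2 z
    rw [← hc]
    simp only [LFFrame.stalkComb, Fintype.linearCombination_apply, Fin.sum_univ_one]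
    refine Submodule.smul_mem _ _ (Submodule.subset_span ⟨l, ?_⟩)
    exact (B.presheaf.germ_res_apply _ x hxl (s l)).symm
  obtain ⟨φ, τ, hr, hpre, hcoef, -⟩ := ProjMorph.exists_to_proj (R := k)
    («𝒜» := CohB1.polyGrading n k) (MvPolynomial.X : Fin (n + 1) → MvPolynomial (Fin (n + 1)) k)
    (SepTang48.X_mem k n) MvPolynomial.adjoin_range_X (ProjUP.toGlobal q) hB s hgen
    (fun i c _ => ⟨MvPolynomial.eval₂Hom ((QCoh.rres le_top).hom.comp (ProjUP.toGlobal q)) c,
      RingHom.ext fun a => MvPolynomial.eval₂Hom_C _ _ a, fun j => MvPolynomial.eval₂Hom_X' _ _ _⟩)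
  have hφ : φ ≫ CohB1.ProjSpace.toSpec n k = q := hr.trans (ProjMorph.toSpecΓ_toGlobal _)
  haveI := ProjProper.Basic.isProper_toSpec n k
  haveI : IsProper φ := by
    haveI : IsProper (φ ≫ CohB1.ProjSpace.toSpec n k) := hφ ▸ (inferInstance : IsProper q)
    exact IsProper.of_comp φ (CohB1.ProjSpace.toSpec n k)
  have hImm : IsImmersion φ := by
    refine ProjMorph.isImmersion_of_pieces φ (𝟙 _) (CohB1.ProjSpace.toSpec n k) inferInstance
      (MvPolynomial.X : Fin (n + 1) → MvPolynomial (Fin (n + 1)) k) (SepTang48.X_mem k n) s J hcov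
      ?_ hpre hcoef ?_
    · rintro _ ⟨a, rfl⟩
      rw [hloc a]
      have h := Props.AmpleProper.isAffineOpen_genLocus q hample
        (homOfSec (g a) ≫ (ProjTwist.oneTens L).inv)
      rwa [show CohB1.genLocus (CohB1.tensorPow L 1) (homOfSec (g a) ≫ (ProjTwist.oneTens L).inv) = locus (g a) from
        (genLocus_comp_iso (homOfSec (g a)) (ProjTwist.oneTens L).symm).trans (genLocus_homOfSec _)] at h
    · rintro _ ⟨a, rfl⟩ c hc
      let U : X.Opens := locus (O := ⊤) (s (ε.symm (.inl a)))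
      have he : IsGen L U (res L (le_top : U ≤ ⊤) (g a)) := by
        have h := (isGen_locus (g a)).restrict (hloc a).le
        rwa [res_res] at h
      refine closure_eq_top (k := k) hdim hL hgg h1 g hg a (hloc a) he _ fun σ₂ => ?_
      have e1 : (s (ε.symm (.inl a)) : Γ(B, ⊤)) = pw L (g a) 2 := by simp [s]
      have hcl : ∀ l, co 2 (show Γ(CohB1.tensorPow L 2, ⊤) from s l) (le_top : U ≤ ⊤) he = c l :=
        fun l => co_unique _ _ _ (by
          refine (hc l).trans (congrArg (c l • ·) ?_)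
          exact (congrArg (res B (le_top : U ≤ ⊤)) e1).trans (res_pw _ _ _))
      obtain ⟨v, rfl⟩ : ∃ v, ProperFin.h0Sec B v = σ₂ :=
        ⟨(ProperFin.h0Sec B).symm σ₂, (ProperFin.h0Sec B).apply_symm_apply σ₂⟩
      rw [← b.sum_repr v, map_sum]
      refine Finset.sum_induction (fun l => ProperFin.h0Sec B (b.repr v l • b l))
        (fun σ => co 2 (show Γ(CohB1.tensorPow L 2, ⊤) from σ) (le_top : U ≤ ⊤) he ∈ _)
        (fun σ σ' hσ hσ' => ?_) ?_ (fun l _ => ?_)
      · show co 2 ((show Γ(CohB1.tensorPow L 2, ⊤) from σ) + σ') _ _ ∈ _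
        rw [co_add]; exact Subring.add_mem _ hσ hσ'
      · show co 2 (0 : Γ(CohB1.tensorPow L 2, ⊤)) _ _ ∈ _
        rw [co_zero']; exact Subring.zero_mem _
      · have e3 : ProperFin.h0Sec B (b.repr v l • b l) =
            ProjUP.toGlobal q (b.repr v l) • ProperFin.h0Sec B (b l) :=
          ProperFin.h0Sec_smul B (Coh.toGlobal q (b.repr v l)) (b l)
        show co 2 (ProperFin.h0Sec B (b.repr v l • b l) : Γ(CohB1.tensorPow L 2, ⊤)) _ _ ∈ _
        rw [e3, co_smul_sec]
        refine Subring.mul_mem _ (Subring.subset_closure (Or.inl ?_)) (Subring.subset_closure (Or.inr ?_))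
        · refine ⟨(Scheme.ΓSpecIso (CommRingCat.of k)).inv (b.repr v l), ?_⟩
          simp only [hφ]
          rfl
        · refine ⟨ε.symm (.inr l), ?_⟩
          rw [← hcl]
          simp [s]
  haveI := hImm
  exact ⟨n, φ, .of_isPreimmersion φ φ.isClosedMap.isClosed_range, hφ, ⟨τ⟩⟩

end Groth.Agent.CurveVA2
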