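import Groth.Agent.CurveVA2.Basic
import Groth.Agent.EulerChar.Torsion
import Groth.Agent.EulerChar.AmpleCurve
import Groth.Agent.IdealSh.Regular
import Groth.Agent.BigVol.Basic
import Groth.Agent.VBLib.MulSec
import Groth.Agent.GrModLib.EventExact
import Groth.Agent.ProjTwist.Pn.HyperSection
import Groth.Agent.Props.AmpleGG

/-!
On a proper scheme of dimension one an invertible module with a regular section and no `H¹` has all
powers `≥ 2` globally generated.
-/

set_option autoImplicit false
set_option linter.style.haveILetI false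

open CategoryTheory CategoryTheory.Limits AlgebraicGeometry TopologicalSpace Opposite
open Groth.Agent.QCoh Groth.Agent.Props.GenLocus Groth.Agent.Props.GenTensor Groth.Agent.Props.GenProd
open Groth.Agent.AmpleLib Groth.Agent.PullStalk.Sky Groth.Agent.PullStalk.Exact
open Groth.Agent.VBLib.MulSec

universe u

noncomputable section

namespace Groth.Agent.CurveVA2

variable {X : Scheme.{u}} {L : X.Modules}

/-- Multiplication by a section on powers. -/
def mulPow (L : X.Modules) (σ : Γ(L, ⊤)) (n : ℕ) :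
    CohB1.tensorPow L n ⟶ CohB1.tensorPow L (n + 1) := mulSec (CohB1.tensorPow L n) σ

/-- The generator of a stalk of an invertible module. -/
theorem stalk_eq_smul {M : X.Modules} {W : X.Opens} {e : Γ(M, W)} (he : IsGen M W e) (x : X)
    (hx : x ∈ W) :
    Function.Bijective fun a : X.presheaf.stalk x => a • germM M W x hx e := by
  have h := ((isGen_iff_isFrame e).mp he).stalkComb_bijective x hx
  have : (fun a : X.presheaf.stalk x => a • germM M W x hx e) =
      LFFrame.stalkComb M (fun _ : Fin 1 => e) x hx ∘ (Equiv.funUnique (Fin 1) (X.presheaf.stalk x)).symm := by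
    funext a
    simp [LFFrame.stalkComb, Fintype.linearCombination_apply]
  rw [this]
  exact h.comp (Equiv.bijective _)

/-- Local form of a section at a point. -/
theorem exists_local (hL : PicF.IsInvertible L) (σ : Γ(L, ⊤)) (x : X) :
    ∃ (W : X.Opens) (e : Γ(L, W)) (c : Γ(X, W)), x ∈ W ∧ IsGen L W e ∧
      res L (le_top : W ≤ ⊤) σ = c • e := by
  obtain ⟨W, e, hxW, he⟩ := exists_isGen hL x
  obtain ⟨c, hc, -⟩ := he.exists_eq le_rfl (res L (le_top : W ≤ ⊤) σ)
  rw [res_self] at hc
  exact ⟨W, e, c, hxW, he, hc⟩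

/-- Multiplication on stalks in a frame. -/
theorem stalkLin_pow {σ : Γ(L, ⊤)} {W : X.Opens} {e : Γ(L, W)} {c : Γ(X, W)}
    (hc : res L (le_top : W ≤ ⊤) σ = c • e) (n : ℕ) (x : X) (hx : x ∈ W) (a : X.presheaf.stalk x) :
    stalkLin (mulPow L σ n) x (a • germM (CohB1.tensorPow L n) W x hx (pw L e n)) =
      (a * X.presheaf.germ W x hx c) • germM (CohB1.tensorPow L (n + 1)) W x hx (pw L e (n + 1)) :=
  stalkLin_mulSec hc (pw L e n) x hx a

/-- The coefficient of a regular section is a nonzerodivisor. -/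
theorem coeff_regular (s : Coh.structureModule X ⟶ L) [Mono s] {W : X.Opens} {e : Γ(L, W)}
    (he : IsGen L W e) {c : Γ(X, W)} (hc : res L (le_top : W ≤ ⊤) (sec s ⊤) = c • e) (x : X) (hx : x ∈ W)
    (a : X.presheaf.stalk x) (ha : a * X.presheaf.germ W x hx c = 0) : a = 0 := by
  rw [sec_res] at hc
  have h1 : stalkLin s x (a • germM (Coh.structureModule X) W x hx (one' W)) = 0 := by
    rw [map_smul, stalkLin_germ, show s.app W (one' W) = c • e from hc, germM_smul, smul_smul, ha,
      zero_smul]
  have h2 := (map_eq_zero_iff _ (Omega.Stalks.stalkLin_injective_of_mono s x)).1 h1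
  exact (stalk_eq_smul (isGen_one W) x hx).1 (h2.trans (zero_smul _ _).symm)

theorem mono_mulSec (hL : PicF.IsInvertible L) (s : Coh.structureModule X ⟶ L) [Mono s] (n : ℕ) :
    Mono (mulPow L (sec s ⊤) n) := by
  refine Omega.Stalks.mono_of_stalk fun x => ?_
  obtain ⟨W, e, c, hxW, he, hc⟩ := exists_local hL (sec s ⊤) x
  rw [injective_iff_map_eq_zero]
  intro z hz
  obtain ⟨a, rfl⟩ := (stalk_eq_smul (isGen_pw he n) x hxW).2 z
  rw [stalkLin_pow hc] at hz
  have h := (stalk_eq_smul (isGen_pw he (n + 1)) x hxW).1 (hz.trans (zero_smul _ _).symm)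
  simp [coeff_regular s he hc x hxW a h]

theorem subsingleton_coker (hL : PicF.IsInvertible L) {σ : Γ(L, ⊤)} (n : ℕ) {x : X}
    (hx : x ∈ locus σ) :
    Subsingleton ((cokernel (mulPow L σ n)).presheaf.stalk x) := by
  have hg := isGen_locus σ
  have hc : res L (le_top : locus σ ≤ ⊤) σ = (1 : Γ(X, locus σ)) • res L (locus_le σ) σ :=
    (one_smul _ _).symm
  refine subsingleton_of_forall_eq 0 fun t => ?_
  obtain ⟨z, rfl⟩ := stalk_surjective (cokernel.π (mulPow L σ n)) x t
  obtain ⟨a, rfl⟩ := (stalk_eq_smul (isGen_pw hg (n + 1)) x hx).2 z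
  have h := stalkLin_pow hc n x hx a
  rw [map_one, mul_one] at h
  show stalkLin (cokernel.π _) x (a • germM _ _ x hx (pw L _ (n + 1))) = 0
  rw [← h, ← Omega.Stalks.stalkLin_comp, cokernel.condition, Omega.Stalks.stalkLin_zero]

variable {k : Type u} [Field k] [X.Over (Spec (CommRingCat.of k))]
  [IsProper (X ↘ Spec (CommRingCat.of k))]

include k in
theorem dim_support_coker (hdim : topologicalKrullDim X = 1) (hL : PicF.IsInvertible L)
    (s : Coh.structureModule X ⟶ L) [Mono s] (n : ℕ) :
    topologicalKrullDim (CohB1.support (cokernel (mulPow L (sec s ⊤) n))) ≤ 0 := by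
  haveI := EulerChar.isNoetherian k (X := X)
  let φ := mulPow L (sec s ⊤) n
  have hQ : Coh.IsCoh (cokernel φ) := CohDev.isCoh_cokernel φ
    (ProjTwist.isQCoh_of_isInvertible (AmpleLib.isInvertible_tensorPow hL n))
    (VBLib.isCoh_of_ofRank (ProjTwist.isFinLocFreeOfRank_one (AmpleLib.isInvertible_tensorPow hL (n + 1))))
  refine BigVol.le_of_lt_add_one (c := 0) (ProjTwist.Pn.dim_add_one_le_of_forall_specializes
    (Z := Set.univ) (c := 1) isClosed_univ (CohDev.isClosed_support hQ) (fun ξ _ => ?_)
    (Set.subset_univ _) ?_)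
  · obtain ⟨η, hη⟩ := QuasiSober.sober (isIrreducible_irreducibleComponent (x := ξ))
      isClosed_irreducibleComponent
    have hsp : η ⤳ ξ := hη.specializes mem_irreducibleComponent
    refine ⟨η, trivial, fun hmem => ?_, hsp⟩
    have hmax : ∀ y : X, y ⤳ η → y = η := fun y hy => by
      have h1 : irreducibleComponent ξ ⊆ closure {y} := hη.def.symm.trans_subset hy.closure_subset
      have h2 := eq_irreducibleComponent isIrreducible_singleton.closure.isPreirreducible h1
      exact (inseparable_iff_closure_eq.2 (h2.trans hη.def.symm)).eq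
    have hnot : η ∉ locus (sec s ⊤) := fun h => hmem (subsingleton_coker hL n h)
    obtain ⟨W, e, c, hxW, he, hc⟩ := exists_local hL (sec s ⊤) η
    have hb := locus_inf (le_top : W ≤ ⊤) he (sec s ⊤) hc
    have hcm : X.presheaf.germ W η hxW c ∈ IsLocalRing.maximalIdeal (X.presheaf.stalk η) := by
      rw [IsLocalRing.mem_maximalIdeal, mem_nonunits_iff]
      intro hu
      exact hnot (hb.ge ((X.mem_basicOpen c η hxW).2 hu)).1
    obtain ⟨m, hm⟩ := IdealSh.Regular.isNilpotent_of_maximal η hmax _ hcm
    have hone : ∀ j : ℕ, X.presheaf.germ W η hxW c ^ j = 0 → (1 : X.presheaf.stalk η) = 0 := by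
      intro j
      induction j with
      | zero => intro h; simpa using h
      | succ j ih =>
        intro h
        rw [pow_succ] at h
        exact ih (coeff_regular s he hc η hxW _ h)
    exact one_ne_zero (hone m hm)
  · refine lt_of_le_of_lt (((Topology.IsEmbedding.subtypeVal).isInducing.topologicalKrullDim_le).trans
      hdim.le) ?_
    exact_mod_cast (show (1 : ℕ) < 1 + 1 by omega)

include k in
/-- `H¹(L^m) = 0` for `m ≥ 1`. -/
theorem h1_pow_reg (hdim : topologicalKrullDim X = 1) (hL : PicF.IsInvertible L)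
    (s : Coh.structureModule X ⟶ L) [Mono s] (h1 : Subsingleton (Coh.HH X L 1)) :
    ∀ m : ℕ, Subsingleton (Coh.HH X (CohB1.tensorPow L (m + 1)) 1)
  | 0 => haveI := h1; BigVol.KoszulSurj.subsingleton_of_iso (ProjTwist.oneTens L).symm 1
  | m + 1 => by
    haveI := EulerChar.isNoetherian k (X := X)
    let φ := mulPow L (sec s ⊤) (m + 1)
    have hS : (ShortComplex.mk φ (cokernel.π φ) (cokernel.condition φ)).ShortExact :=
      ShortComplex.ShortExact.mk' (ShortComplex.exact_cokernel φ) (mono_mulSec hL s (m + 1))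
        (inferInstanceAs (Epi (cokernel.π φ)))
    have hQ : Coh.IsCoh (cokernel φ) := CohDev.isCoh_cokernel φ
      (ProjTwist.isQCoh_of_isInvertible (AmpleLib.isInvertible_tensorPow hL (m + 1)))
      (VBLib.isCoh_of_ofRank (ProjTwist.isFinLocFreeOfRank_one (AmpleLib.isInvertible_tensorPow hL (m + 2))))
    exact @CohLin.subsingleton_X₂ X _ hS 1 (h1_pow_reg hdim hL s h1 m)
      (EulerChar.subsingleton_HH_of_support k hQ (dim_support_coker (k := k) hdim hL s (m + 1)) 0)

include k in
/-- `L^(m+2)` is globally generated. -/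
theorem gg_pow_reg (hdim : topologicalKrullDim X = 1) (hL : PicF.IsInvertible L)
    (s : Coh.structureModule X ⟶ L) [Mono s] (h1 : Subsingleton (Coh.HH X L 1)) (m : ℕ) :
    Curv2.IsGloballyGenerated (CohB1.tensorPow L (m + 2)) := by
  haveI := EulerChar.isNoetherian k (X := X)
  have hP := AmpleLib.isInvertible_tensorPow hL (m + 2)
  let φ := mulPow L (sec s ⊤) (m + 1)
  have hS : (ShortComplex.mk φ (cokernel.π φ) (cokernel.condition φ)).ShortExact :=
    ShortComplex.ShortExact.mk' (ShortComplex.exact_cokernel φ) (mono_mulSec hL s (m + 1))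
      (inferInstanceAs (Epi (cokernel.π φ)))
  have hQ : Coh.IsCoh (cokernel φ) := CohDev.isCoh_cokernel φ
    (ProjTwist.isQCoh_of_isInvertible (AmpleLib.isInvertible_tensorPow hL (m + 1)))
    (VBLib.isCoh_of_ofRank (ProjTwist.isFinLocFreeOfRank_one hP))
  refine Props.AmpleGG.isGloballyGenerated_of_genLocus fun x => ?_
  by_cases hx : x ∈ locus (sec s ⊤)
  · refine ⟨homOfSec (pw L (sec s ⊤) (m + 2)), ?_⟩
    rw [genLocus_homOfSec]
    have hg := isGen_pw (isGen_locus (sec s ⊤)) (m + 2)
    rw [← res_pw] at hg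
    exact le_locus (locus_le (sec s ⊤)) hg hx
  · obtain ⟨W, e, c, hxW, he, hc⟩ := exists_local hL (sec s ⊤) x
    have hcm : X.presheaf.germ W x hxW c ∈ IsLocalRing.maximalIdeal (X.presheaf.stalk x) := by
      rw [IsLocalRing.mem_maximalIdeal, mem_nonunits_iff]
      intro hu
      exact hx ((locus_inf (le_top : W ≤ ⊤) he (sec s ⊤) hc).ge ((X.mem_basicOpen c x hxW).2 hu)).1
    let g := germM (CohB1.tensorPow L (m + 2)) W x hxW (pw L e (m + 2))
    refine EulerChar.exists_genLocus_of_span hP fun z => ?_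
    set N := Submodule.span (X.presheaf.stalk x)
      (Set.range fun τ : Γ(CohB1.tensorPow L (m + 2), ⊤) ↦ germM (CohB1.tensorPow L (m + 2)) ⊤ x trivial τ)
    suffices hg : g ∈ N by
      obtain ⟨a, rfl⟩ := (stalk_eq_smul (isGen_pw he (m + 2)) x hxW).2 z
      exact N.smul_mem a hg
    -- lift the image of `g` in the finite length cokernel to a global section
    obtain ⟨V, hxV, q, hq⟩ := exists_germM_eq (cokernel φ) x (stalkLin (cokernel.π φ) x g)
    obtain ⟨q₀, hq₀⟩ := (AddCommGrpCat.epi_iff_surjective _).1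
      ((EulerChar.isFlasque_of_support k hQ (dim_support_coker (k := k) hdim hL s (m + 1))).epi
        (homOfLE (le_top : V ≤ ⊤)).op) q
    haveI : Subsingleton (Coh.HH X (ShortComplex.mk φ (cokernel.π φ) (cokernel.condition φ)).X₁ 1) :=
      h1_pow_reg (k := k) hdim hL s h1 m
    obtain ⟨τ, hτ⟩ := GrModLib.topMap_g_surjective hS q₀
    let t := germM (CohB1.tensorPow L (m + 2)) ⊤ x trivial τ
    have htg : stalkLin (cokernel.π φ) x t = stalkLin (cokernel.π φ) x g := by
      rw [← hq, stalkLin_germ]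
      refine Eq.trans ?_ (congrArg (germM (cokernel φ) V x hxV) hq₀)
      refine (congrArg (germM (cokernel φ) ⊤ x trivial) hτ).trans ?_
      exact ((cokernel φ).presheaf.germ_res_apply (homOfLE (le_top : V ≤ ⊤)) x hxV q₀).symm
    obtain ⟨y, hy⟩ := ((stalk_exact hS x).2.1 (g - t)).1 (by rw [map_sub, htg, sub_self])
    obtain ⟨a, rfl⟩ := (stalk_eq_smul (isGen_pw he (m + 1)) x hxW).2 y
    rw [stalkLin_pow hc] at hy
    have hu : IsUnit (1 - a * X.presheaf.germ W x hxW c) :=
      IsLocalRing.isUnit_one_sub_self_of_mem_nonunits _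
        (Ideal.mul_mem_left _ a hcm)
    have htg' : (1 - a * X.presheaf.germ W x hxW c) • g = t := by
      rw [sub_smul, one_smul]
      exact sub_eq_iff_eq_add.2 (by rw [show (a * X.presheaf.germ W x hxW c) • g = g - t from hy]; abel)
    rw [← N.smul_mem_iff_of_isUnit hu, htg']
    exact Submodule.subset_span ⟨τ, rfl⟩

end Groth.Agent.CurveVA2
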